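import Groth.Agent.SGA1Q.GeomTrans
import Groth.Agent.SGA1Q.Residue
import Groth.Agent.SGA1Q.BaseChange
import Groth.Agent.SGA1Q.Properties
import Mathlib.AlgebraicGeometry.Morphisms.Flat
import Mathlib.AlgebraicGeometry.Morphisms.UniversallyInjective
import Mathlib.AlgebraicGeometry.Morphisms.ClosedImmersion

/-!
# Permanence properties of quotients by finite groups
-/

set_option autoImplicit false
set_option linter.style.haveILetI false
universe u

open CategoryTheory CategoryTheory.Limits AlgebraicGeometry TopologicalSpace Opposite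

namespace Groth.Agent.QuotPerm75

variable {X Y Z : Scheme.{u}} {G H : Type u} [Group G] [Group H]

/-- The geometric points of a fibre of a quotient map form one orbit. -/
theorem geomTransitive_of_isQuot [Finite G] {ρ : G →* Aut X} {p : X ⟶ Y} (hp : SGA1.IsQuot ρ p)
    (Ω : Type u) [Field Ω] [IsAlgClosed Ω] (τ₁ τ₂ : Spec (CommRingCat.of Ω) ⟶ X)
    (h : τ₁ ≫ p = τ₂ ≫ p) : ∃ g : G, τ₁ ≫ (ρ g).hom = τ₂ :=
  SGA1Q.geomTransitive p ρ hp.inv (fun a b h => (SGA1Q.orbit_iff hp a b).1 h)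
    (fun a => (SGA1Q.normal_and_stabilizer_surjective hp a).1) (fun a σ hσ => by
      obtain ⟨g, e, he⟩ := (SGA1Q.normal_and_stabilizer_surjective hp a).2 σ hσ
      refine ⟨g, ?_⟩
      rw [he, Spec.map_comp, Category.assoc,
        ← Scheme.Hom.SpecMap_residueFieldMap_fromSpecResidueField]
      congr 1
      rw [← Iso.symm_hom]
      exact (Scheme.residueFieldCongr_fromSpecResidueField e.symm).symm) Ω τ₁ τ₂ h

theorem epi_of_isQuot [Finite G] {ρ : G →* Aut X} {p : X ⟶ Y} (hp : SGA1.IsQuot ρ p) : Epi p :=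
  SGA1Q.epi_of_surjective_of_injective p (SGA1Q.surjective hp) hp.injective

/-- Commuting endomorphisms act compatibly on sections. -/
theorem appLE_swap {a : X ⟶ X} {q : X ⟶ Y} {b : Y ⟶ Y} (h : a ≫ q = q ≫ b) (V : Y.Opens)
    (e₁ : V ≤ b ⁻¹ᵁ V) (e₂ : q ⁻¹ᵁ V ≤ a ⁻¹ᵁ (q ⁻¹ᵁ V)) (t : Γ(Y, V)) :
    (q.app V).hom ((b.appLE V V e₁).hom t) =
      (a.appLE (q ⁻¹ᵁ V) (q ⁻¹ᵁ V) e₂).hom ((q.app V).hom t) := by
  rw [Scheme.Hom.app_eq_appLE]
  show (b.appLE V V e₁ ≫ q.appLE V (q ⁻¹ᵁ V) le_rfl).hom t =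
    (q.appLE V (q ⁻¹ᵁ V) le_rfl ≫ a.appLE _ _ e₂).hom t
  rw [Scheme.Hom.appLE_comp_appLE, Scheme.Hom.appLE_comp_appLE]
  exact congr(($(SGA1Q.appLE_congr_hom h.symm _ _)).hom t)

/-- A quotient of a quotient is a quotient. -/
theorem isQuot_comp {N K : Type u} [Group N] [Group K] {ρ : G →* Aut X} {σ : N →* Aut X}
    {q : X ⟶ Y} {τ : K →* Aut Y} {r : Y ⟶ Z} (hq : SGA1.IsQuot σ q) (hr : SGA1.IsQuot τ r)
    (hinv : ∀ g : G, (ρ g).hom ≫ q ≫ r = q ≫ r)
    (hN : ∀ n : N, ∃ g : G, (ρ g).hom = (σ n).hom)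
    (hK : ∀ k : K, ∃ g : G, (ρ g).hom ≫ q = q ≫ (τ k).hom) :
    SGA1.IsQuot ρ (q ≫ r) := by
  haveI := hq.affine
  haveI := hr.affine
  refine ⟨inferInstance, hinv, fun U => (hq.injective (r ⁻¹ᵁ U)).comp (hr.injective U),
    fun U s => ⟨?_, fun hs => ?_⟩⟩
  · rintro ⟨t, rfl⟩ g
    exact SGA1Q.appLE_app_of_inv hinv U g t
  obtain ⟨t, ht⟩ := (hq.range_iff (r ⁻¹ᵁ U) s).2 fun n => by
    obtain ⟨g, hg⟩ := hN n
    refine Eq.trans ?_ (hs g)
    exact congr(($(SGA1Q.appLE_congr_hom hg.symm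
      (SGA1.preimage_le_of_inv σ q hq.inv n (r ⁻¹ᵁ U)) (SGA1.preimage_le_of_inv ρ _ hinv g U))).hom s)
  obtain ⟨v, hv⟩ := (hr.range_iff U t).2 fun k => by
    obtain ⟨g, hg⟩ := hK k
    refine hq.injective (r ⁻¹ᵁ U) ?_
    refine (appLE_swap hg (r ⁻¹ᵁ U) (SGA1.preimage_le_of_inv τ r hr.inv k U)
      (SGA1.preimage_le_of_inv ρ _ hinv g U) t).trans ?_
    rw [ht]
    exact hs g
  exact ⟨v, (congrArg (q.app (r ⁻¹ᵁ U)).hom hv).trans ht⟩

/-- If a quotient factors through an intermediate quotient, the second map is a quotient. -/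
theorem isQuot_of_comp [Finite G] {N K : Type u} [Group N] [Finite N] [Group K]
    {ρ : G →* Aut X} {σ : N →* Aut X} {q : X ⟶ Y} {τ : K →* Aut Y} {r : Y ⟶ Z}
    (hq : SGA1.IsQuot σ q) (hp : SGA1.IsQuot ρ (q ≫ r))
    (hK : ∀ k : K, ∃ g : G, (ρ g).hom ≫ q = q ≫ (τ k).hom)
    (hG : ∀ g : G, ∃ k : K, (ρ g).hom ≫ q = q ≫ (τ k).hom) : SGA1.IsQuot τ r := by
  haveI := epi_of_isQuot hq
  haveI := hp.affine
  have hinv : ∀ k, (τ k).hom ≫ r = r := fun k => by
    obtain ⟨g, hg⟩ := hK k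
    rw [← cancel_epi q, ← reassoc_of% hg, hp.inv g]
  refine ⟨(SGA1Q.isAffineHom_iff_of_isQuot hq rfl).1 inferInstance, hinv,
    fun U => Function.Injective.of_comp (f := (q.app (r ⁻¹ᵁ U)).hom) (hp.injective U),
    fun U t => ⟨?_, fun ht => ?_⟩⟩
  · rintro ⟨v, rfl⟩ k
    exact SGA1Q.appLE_app_of_inv hinv U k v
  obtain ⟨v, hv⟩ := (hp.range_iff U ((q.app (r ⁻¹ᵁ U)).hom t)).2 fun g => by
    obtain ⟨k, hg⟩ := hG g
    refine (appLE_swap hg (r ⁻¹ᵁ U) (SGA1.preimage_le_of_inv τ r hinv k U)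
      (SGA1.preimage_le_of_inv ρ _ hp.inv g U) t).symm.trans ?_
    exact congrArg _ (ht k)
  exact ⟨v, hq.injective _ hv⟩

/-- An action by morphisms over a base extends to a base change. -/
noncomputable def mapSndAction {S : Scheme.{u}} (a : Z ⟶ S) (b : Y ⟶ S) (σ : H →* Aut Y)
    (hσ : ∀ h, (σ h).hom ≫ b = b) : H →* Aut (pullback a b) :=
  let m : H → (pullback a b ⟶ pullback a b) := fun h =>
    pullback.map a b a b (𝟙 Z) (σ h).hom (𝟙 S) (by simp) (by rw [hσ, Category.comp_id])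
  have hm : ∀ h h', m (h * h') = m h' ≫ m h := fun h h' => by
    dsimp only [m, pullback.map]
    apply pullback.hom_ext
    · erw [pullback.lift_fst, Category.assoc, pullback.lift_fst, pullback.lift_fst]
    · simp only [pullback.lift_snd, Category.assoc, pullback.lift_snd_assoc]
      exact congrArg (pullback.snd a b ≫ ·) (SGA1Q.hom_mul σ h h')
  have h1 : m 1 = 𝟙 _ := by
    dsimp only [m, pullback.map]
    apply pullback.hom_ext
    · erw [pullback.lift_fst, Category.id_comp]; exact Category.comp_id _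
    · simp only [pullback.lift_snd, Category.id_comp]
      refine (congrArg (pullback.snd a b ≫ ·) (SGA1Q.hom_one σ)).trans ?_
      exact Category.comp_id _
  { toFun := fun h => ⟨m h, m h⁻¹, by rw [← hm, inv_mul_cancel, h1],
      by rw [← hm, mul_inv_cancel, h1]⟩
    map_one' := Iso.ext h1
    map_mul' := fun h h' => Iso.ext (hm h h') }

theorem mapSndAction_fst {S : Scheme.{u}} (a : Z ⟶ S) (b : Y ⟶ S) (σ : H →* Aut Y)
    (hσ : ∀ h, (σ h).hom ≫ b = b) (h : H) :
    (mapSndAction a b σ hσ h).hom ≫ pullback.fst a b = pullback.fst a b :=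
  (pullback.lift_fst _ _ _).trans (Category.comp_id _)

theorem mapSndAction_snd {S : Scheme.{u}} (a : Z ⟶ S) (b : Y ⟶ S) (σ : H →* Aut Y)
    (hσ : ∀ h, (σ h).hom ≫ b = b) (h : H) :
    (mapSndAction a b σ hσ h).hom ≫ pullback.snd a b = pullback.snd a b ≫ (σ h).hom :=
  pullback.lift_snd _ _ _

/-- The product of two quotients, over a base over which everything is flat. -/
theorem isQuot_prod [Finite G] [Finite H] {S XG YH : Scheme.{u}} {W : Scheme.{u}}
    (fX : X ⟶ S) (fY : W ⟶ S) (gX : XG ⟶ S) (gY : YH ⟶ S) [Flat gX] [Flat fY]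
    {ρ : G →* Aut X} {σ : H →* Aut W} {p : X ⟶ XG} (hp' : p ≫ gX = fX) {q : W ⟶ YH}
    (hq' : q ≫ gY = fY) (hP : SGA1.IsQuot ρ p) (hQ : SGA1.IsQuot σ q)
    (θ : G × H →* Aut (pullback fX fY))
    (hθ1 : ∀ gh : G × H, (θ gh).hom ≫ pullback.fst fX fY = pullback.fst fX fY ≫ (ρ gh.1).hom)
    (hθ2 : ∀ gh : G × H, (θ gh).hom ≫ pullback.snd fX fY = pullback.snd fX fY ≫ (σ gh.2).hom)
    (π : pullback fX fY ⟶ pullback gX gY) (hπ1 : π ≫ pullback.fst gX gY = pullback.fst fX fY ≫ p)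
    (hπ2 : π ≫ pullback.snd gX gY = pullback.snd fX fY ≫ q) :
    SGA1.IsQuot θ π := by
  have hσ : ∀ h, (σ h).hom ≫ fY = fY := fun h => by rw [← hq', reassoc_of% hQ.inv h]
  let q₁ : pullback fX fY ⟶ pullback gX fY :=
    pullback.lift (pullback.fst fX fY ≫ p) (pullback.snd fX fY)
      (by rw [Category.assoc, hp', pullback.condition])
  have hq₁f : q₁ ≫ pullback.fst gX fY = pullback.fst fX fY ≫ p := pullback.lift_fst _ _ _
  have hq₁s : q₁ ≫ pullback.snd gX fY = pullback.snd fX fY := pullback.lift_snd _ _ _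
  let q₂ : pullback gX fY ⟶ pullback gX gY :=
    pullback.lift (pullback.fst gX fY) (pullback.snd gX fY ≫ q)
      (by rw [Category.assoc, hq', pullback.condition])
  have hq₂f : q₂ ≫ pullback.fst gX gY = pullback.fst gX fY := pullback.lift_fst _ _ _
  have hq₂s : q₂ ≫ pullback.snd gX gY = pullback.snd gX fY ≫ q := pullback.lift_snd _ _ _
  have sq₁ : IsPullback (pullback.fst fX fY) q₁ p (pullback.fst gX fY) := by
    refine IsPullback.of_bot ?_ hq₁f.symm (IsPullback.of_hasPullback gX fY)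
    rw [hp', hq₁s]
    exact IsPullback.of_hasPullback fX fY
  have sq₂ : IsPullback (pullback.snd gX fY) q₂ q (pullback.snd gX gY) := by
    refine IsPullback.of_bot ?_ hq₂s.symm (IsPullback.of_hasPullback gX gY).flip
    rw [hq', hq₂f]
    exact (IsPullback.of_hasPullback gX fY).flip
  let θ₁ : G →* Aut (pullback fX fY) := θ.comp (MonoidHom.inl G H)
  have h1 : SGA1.IsQuot θ₁ q₁ := by
    refine SGA1Q.isQuot_baseChange hP _ _ _ sq₁ θ₁ (fun g => hθ1 (g, 1)) fun g => ?_
    show (θ (g, 1)).hom ≫ q₁ = q₁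
    apply pullback.hom_ext
    · rw [Category.assoc, hq₁f, reassoc_of% hθ1 (g, 1), hP.inv]
    · rw [Category.assoc, hq₁s]
      refine (hθ2 (g, 1)).trans ?_
      rw [SGA1Q.hom_one, Category.comp_id]
  let τ : H →* Aut (pullback gX fY) := mapSndAction gX fY σ hσ
  have h2 : SGA1.IsQuot τ q₂ := by
    refine SGA1Q.isQuot_baseChange hQ _ _ _ sq₂ τ (mapSndAction_snd gX fY σ hσ) fun h => ?_
    apply pullback.hom_ext
    · rw [Category.assoc, hq₂f, mapSndAction_fst]
    · rw [Category.assoc, hq₂s, reassoc_of% mapSndAction_snd gX fY σ hσ h, hQ.inv]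
  have hπ : π = q₁ ≫ q₂ := by
    apply pullback.hom_ext
    · rw [hπ1, Category.assoc, hq₂f, hq₁f]
    · rw [hπ2, Category.assoc, hq₂s, reassoc_of% hq₁s]
  subst hπ
  refine isQuot_comp h1 h2 (fun gh => ?_) (fun g => ⟨(g, 1), rfl⟩) fun h => ⟨(1, h), ?_⟩
  · apply pullback.hom_ext
    · simp only [Category.assoc, hq₂f, hq₁f]
      rw [reassoc_of% hθ1 gh, hP.inv]
    · simp only [Category.assoc, hq₂s, reassoc_of% hq₁s]
      rw [reassoc_of% hθ2 gh, hQ.inv]
  · apply pullback.hom_ext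
    · rw [Category.assoc, hq₁f, reassoc_of% hθ1 (1, h), hP.inv, Category.assoc, mapSndAction_fst,
        hq₁f]
    · rw [Category.assoc, hq₁s, hθ2 (1, h), Category.assoc, mapSndAction_snd, reassoc_of% hq₁s]

/-- A morphism of quotients induced by an equivariant monomorphism is universally injective, with
the expected image. -/
theorem universallyInjective_induced [Finite G] {W WG XG : Scheme.{u}} {ρ : G →* Aut X}
    {p : X ⟶ XG} (hP : SGA1.IsQuot ρ p) (j : W ⟶ X) [Mono j] (ρW : G →* Aut W)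
    (hρW : ∀ g, (ρW g).hom ≫ j = j ≫ (ρ g).hom) {pW : W ⟶ WG} (hPW : SGA1.IsQuot ρW pW)
    (φ : WG ⟶ XG) (hφ : pW ≫ φ = j ≫ p) :
    UniversallyInjective φ ∧ Set.range φ.base = p.base '' Set.range j.base := by
  haveI : Surjective pW := ⟨SGA1Q.surjective hPW⟩
  constructor
  · rw [UniversallyInjective.iff_diagonal]
    refine ⟨fun z => ?_⟩
    let m : pullback (pW ≫ φ) (pW ≫ φ) ⟶ pullback φ φ :=
      pullback.map _ _ _ _ pW pW (𝟙 _) (by simp) (by simp)
    haveI : MorphismProperty.IsStableUnderComposition @Surjective :=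
      ⟨fun f g (hf : Surjective f) (hg : Surjective g) => inferInstanceAs (Surjective (f ≫ g))⟩
    haveI : Surjective m := by
      exact MorphismProperty.pullbackMap (P := @Surjective) (f := pW ≫ φ) (g := pW ≫ φ) (f' := φ)
        (g' := φ) (i₁ := pW) (i₂ := pW) inferInstance inferInstance rfl rfl
    obtain ⟨v, hv⟩ := m.surjective z
    let V := pullback (pW ≫ φ) (pW ≫ φ)
    let Ω := AlgebraicClosure (V.residueField v)
    let a : Spec (CommRingCat.of Ω) ⟶ V :=
      Spec.map (CommRingCat.ofHom (algebraMap (V.residueField v) Ω)) ≫ V.fromSpecResidueField v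
    have ha : a.base (IsLocalRing.closedPoint Ω) = v := Scheme.fromSpecResidueField_apply v _
    obtain ⟨g, hg⟩ := geomTransitive_of_isQuot hP Ω (a ≫ pullback.fst _ _ ≫ j)
      (a ≫ pullback.snd _ _ ≫ j) (by
        simp only [Category.assoc, ← hφ]
        rw [pullback.condition])
    have he : (a ≫ pullback.fst _ _) ≫ (ρW g).hom = a ≫ pullback.snd _ _ := by
      rw [← cancel_mono j, Category.assoc, hρW]
      simpa only [Category.assoc] using hg
    have hsame : a ≫ pullback.fst _ _ ≫ pW = a ≫ pullback.snd _ _ ≫ pW := by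
      have := congrArg (· ≫ pW) he
      simp only [Category.assoc, hPW.inv] at this
      exact this
    have hfac : a ≫ m = (a ≫ pullback.fst _ _ ≫ pW) ≫ pullback.diagonal φ := by
      apply pullback.hom_ext
      · simp only [Category.assoc, m, pullback.map, pullback.lift_fst, pullback.diagonal_fst,
          Category.comp_id]
      · simp only [Category.assoc, m, pullback.map, pullback.lift_snd, pullback.diagonal_snd,
          Category.comp_id, hsame]
    refine ⟨(a ≫ pullback.fst _ _ ≫ pW) (IsLocalRing.closedPoint Ω), ?_⟩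
    exact ((congr(($hfac).base (IsLocalRing.closedPoint Ω))).symm.trans
      (congrArg m.base ha)).trans hv
  · have hc : ∀ w, φ.base (pW.base w) = p.base (j.base w) := fun w => congr(($hφ).base w)
    ext y
    constructor
    · rintro ⟨w', rfl⟩
      obtain ⟨w, rfl⟩ := pW.surjective w'
      exact ⟨j w, ⟨w, rfl⟩, (hc w).symm⟩
    · rintro ⟨_, ⟨w, rfl⟩, rfl⟩
      exact ⟨pW w, hc w⟩

end Groth.Agent.QuotPerm75
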