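import Groth.Agent.QuotPerm75.Basic
import Mathlib.GroupTheory.Coset.Basic
import Mathlib.Algebra.BigOperators.Group.Finset.Basic

/-!
# Quotients of disjoint unions of translates
-/

set_option autoImplicit false
set_option linter.style.haveILetI false
universe u

open CategoryTheory CategoryTheory.Limits AlgebraicGeometry TopologicalSpace Opposite

namespace Groth.Agent.QuotPerm75

variable {X XG : Scheme.{u}} {G : Type u} [Group G]

theorem res_congr {O V W : X.Opens} (e : V = W) (hV : V ≤ O) (hW : W ≤ O) :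
    (∀ a, (X.presheaf.map (homOfLE hV).op).hom a = 0 ↔ (X.presheaf.map (homOfLE hW).op).hom a = 0) ∧
      (Function.Surjective (X.presheaf.map (homOfLE hW).op).hom →
        Function.Surjective (X.presheaf.map (homOfLE hV).op).hom) := by
  subst e
  exact ⟨fun _ => Iff.rfl, id⟩

theorem image_preimage_eq (O Y : X.Opens) : Y.ι ''ᵁ (Y.ι ⁻¹ᵁ O) = O ⊓ Y := by
  rw [Scheme.Hom.image_preimage_eq_opensRange_inf, Scheme.Opens.opensRange_ι, inf_comm]

/-- Restriction of sections of `X` to sections of an open subscheme. -/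
theorem ι_app_eq_zero_iff (O Y : X.Opens) (a : Γ(X, O)) :
    (Y.ι.app O).hom a = 0 ↔
      (X.presheaf.map (homOfLE (inf_le_left : O ⊓ Y ≤ O)).op).hom a = 0 :=
  (res_congr (image_preimage_eq O Y) (image_preimage_eq O Y ▸ inf_le_left) inf_le_left).1 a

theorem surjective_ι_app_of_isClosed (O Y : X.Opens) (hY : IsClosed (Y : Set X)) :
    Function.Surjective (Y.ι.app O).hom := by
  classical
  refine (res_congr (image_preimage_eq O Y) (image_preimage_eq O Y ▸ inf_le_left) inf_le_left).2 ?_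
  intro s
  let Y' : X.Opens := ⟨(Y : Set X)ᶜ, hY.isOpen_compl⟩
  let V : Bool → X.Opens := fun b => cond b (O ⊓ Y) (O ⊓ Y')
  have hV : O ≤ iSup V := fun x hx => by
    by_cases h : x ∈ Y
    · exact Opens.mem_iSup.2 ⟨true, hx, h⟩
    · exact Opens.mem_iSup.2 ⟨false, hx, h⟩
  let sv : (b : Bool) → Γ(X, V b) := fun b =>
    match b with
    | true => s
    | false => 0
  have hle : ∀ b, V b ≤ O := fun b => by cases b <;> exact inf_le_left
  obtain ⟨a, ha, -⟩ := X.sheaf.existsUnique_gluing' V O (fun b => homOfLE (hle b)) hV sv (by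
    intro b b'
    have hbot : O ⊓ Y ⊓ (O ⊓ Y') = ⊥ :=
      Opens.ext (Set.eq_empty_iff_forall_notMem.2 fun x hx => hx.2.2 hx.1.2)
    haveI : ∀ W : X.Opens, W = ⊥ → Subsingleton Γ(X, W) := fun W hW => by
      subst hW
      exact CommRingCat.subsingleton_of_isTerminal X.sheaf.isTerminalOfEmpty
    cases b <;> cases b'
    · rfl
    · exact @Subsingleton.elim _ (this _ (inf_comm _ _ |>.trans hbot)) _ _
    · exact @Subsingleton.elim _ (this _ hbot) _ _
    · rfl)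
  exact ⟨a, ha true⟩

/-- **A quotient of a disjoint union of translates.** -/
theorem isQuot_coset [Finite G] {ρ : G →* Aut X} {p : X ⟶ XG}
    (hP : SGA1.IsQuot ρ p) (H : Subgroup G) (Y : X.Opens)
    (hcov : ∀ x : X, ∃ g : G, x ∈ (ρ g).hom.base '' (Y : Set X))
    (hdisj : ∀ g : G, g ∉ H → Disjoint ((ρ g).hom.base '' (Y : Set X)) (Y : Set X))
    (ρY : H →* Aut (Y : Scheme.{u})) (hρY : ∀ h : H, (ρY h).hom ≫ Y.ι = Y.ι ≫ (ρ (h : G)).hom) :
    SGA1.IsQuot ρY (Y.ι ≫ p) := by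
  classical
  haveI := hP.affine
  have hstab : ∀ (g : G), g ∈ H → ∀ y ∈ Y, (ρ g).hom y ∈ Y := fun g hg y hy => by
    have e := congr(($(hρY ⟨g, hg⟩)).base ⟨y, hy⟩)
    exact e ▸ ((ρY ⟨g, hg⟩).hom.base ⟨y, hy⟩).2
  have hY : IsClosed (Y : Set X) := by
    refine isOpen_compl_iff.1 (isOpen_iff_forall_mem_open.2 fun x hx => ?_)
    obtain ⟨g, hg⟩ := hcov x
    have hgH : g ∉ H := fun h => by
      obtain ⟨y, hy, rfl⟩ := hg
      exact hx (hstab g h y hy)
    refine ⟨(ρ g).hom.base '' (Y : Set X), ?_, ?_, hg⟩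
    · exact Set.disjoint_left.1 (hdisj g hgH)
    · haveI : IsIso ((ρ g).hom : X ⟶ X) := (ρ g).isIso_hom
      exact ((ρ g).hom : X ⟶ X).isOpenEmbedding.isOpenMap _ Y.2
  haveI : IsClosedImmersion Y.ι :=
    IsClosedImmersion.of_isPreimmersion _ (by rw [Scheme.Opens.range_ι]; exact hY)
  have hinv : ∀ h : H, (ρY h).hom ≫ Y.ι ≫ p = Y.ι ≫ p := fun h => by
    rw [reassoc_of% hρY h, hP.inv]
  -- sections
  let act : ∀ U : XG.Opens, MulSemiringAction G Γ(X, p ⁻¹ᵁ U) := fun U =>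
    SGA1Q.secAction ρ (p ⁻¹ᵁ U) (fun g => SGA1.preimage_le_of_inv ρ p hP.inv g U)
  have key : ∀ (U : XG.Opens),
      (∀ a : Γ(X, p ⁻¹ᵁ U), (∀ g : G, (letI := act U; g • a) = a) → (Y.ι.app _).hom a = 0 → a = 0) ∧
      (∀ a : Γ(X, p ⁻¹ᵁ U), (X.presheaf.map (homOfLE (inf_le_left :
          p ⁻¹ᵁ U ⊓ ⟨(Y : Set X)ᶜ, hY.isOpen_compl⟩ ≤ p ⁻¹ᵁ U)).op).hom a = 0 →
        ∀ g : G, g ∉ H → (Y.ι.app _).hom (letI := act U; g • a) = 0) := by
    intro U
    letI := SGA1Q.secAction ρ (p ⁻¹ᵁ U) (fun g => SGA1.preimage_le_of_inv ρ p hP.inv g U)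
    refine ⟨fun a ha h0 => ?_, fun a ha g hg => ?_⟩
    · rw [ι_app_eq_zero_iff] at h0
      let W : G → X.Opens := fun g => p ⁻¹ᵁ U ⊓ (ρ g).hom ⁻¹ᵁ Y
      refine X.sheaf.eq_of_locally_eq' W (p ⁻¹ᵁ U) (fun g => homOfLE inf_le_left) ?_ a 0 fun g => ?_
      · intro x hx
        obtain ⟨g, y, hy, rfl⟩ := hcov x
        refine Opens.mem_iSup.2 ⟨g⁻¹, hx, ?_⟩
        show (ρ g⁻¹).hom ((ρ g).hom y) ∈ Y
        have e : (ρ g).hom ≫ (ρ g⁻¹).hom = 𝟙 X := by
          rw [← SGA1Q.hom_mul, inv_mul_cancel, SGA1Q.hom_one]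
        have e' := congr(($e).base y)
        exact Eq.mpr (congrArg (· ∈ Y) e') hy
      · show (X.presheaf.map _).hom a = (X.presheaf.map _).hom 0
        rw [map_zero]
        conv_lhs => rw [← ha g⁻¹]
        show (((ρ g⁻¹⁻¹).hom.appLE _ _ _) ≫ X.presheaf.map _).hom a = 0
        rw [Scheme.Hom.appLE_map]
        have hW : W g ≤ (ρ g⁻¹⁻¹).hom ⁻¹ᵁ (p ⁻¹ᵁ U ⊓ Y) := by
          rw [inv_inv]
          exact fun x hx => ⟨SGA1.preimage_le_of_inv ρ p hP.inv g U hx.1, hx.2⟩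
        rw [← Scheme.Hom.map_appLE _ hW (homOfLE inf_le_left).op, CommRingCat.hom_comp,
          RingHom.comp_apply, h0, map_zero]
    · rw [ι_app_eq_zero_iff]
      show (((ρ g⁻¹).hom.appLE _ _ _) ≫ X.presheaf.map _).hom a = 0
      rw [Scheme.Hom.appLE_map]
      have hW : p ⁻¹ᵁ U ⊓ Y ≤ (ρ g⁻¹).hom ⁻¹ᵁ
          (p ⁻¹ᵁ U ⊓ ⟨(Y : Set X)ᶜ, hY.isOpen_compl⟩) := fun x hx =>
        ⟨SGA1.preimage_le_of_inv ρ p hP.inv g⁻¹ U hx.1,
          Set.disjoint_left.1 (hdisj g⁻¹ (fun h => hg (by simpa using H.inv_mem h))) ⟨x, hx.2, rfl⟩⟩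
      rw [← Scheme.Hom.map_appLE _ hW (homOfLE inf_le_left).op, CommRingCat.hom_comp,
        RingHom.comp_apply, ha, map_zero]
  refine ⟨inferInstance, hinv, fun U => ?_, fun U s => ⟨?_, fun hs => ?_⟩⟩
  · rw [injective_iff_map_eq_zero]
    intro t ht
    refine (injective_iff_map_eq_zero _).1 (hP.injective U) t ((key U).1 _ (fun g => ?_) ht)
    exact SGA1Q.appLE_app_of_inv hP.inv U g⁻¹ t
  · rintro ⟨t, rfl⟩ h
    exact SGA1Q.appLE_app_of_inv hinv U h t
  letI := SGA1Q.secAction ρ (p ⁻¹ᵁ U) (fun g => SGA1.preimage_le_of_inv ρ p hP.inv g U)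
  -- extend by zero
  let Y' : X.Opens := ⟨(Y : Set X)ᶜ, hY.isOpen_compl⟩
  obtain ⟨a, ha, ha'⟩ : ∃ a : Γ(X, p ⁻¹ᵁ U), (Y.ι.app _).hom a = s ∧
      (X.presheaf.map (homOfLE (inf_le_left : p ⁻¹ᵁ U ⊓ Y' ≤ p ⁻¹ᵁ U)).op).hom a = 0 := by
    obtain ⟨a₀, ha₀⟩ := surjective_ι_app_of_isClosed (p ⁻¹ᵁ U) Y hY s
    obtain ⟨e, he⟩ := surjective_ι_app_of_isClosed (p ⁻¹ᵁ U) Y' (by
      show IsClosed (Y : Set X)ᶜ; exact isClosed_compl_iff.2 Y.2) ((Y'.ι.app _).hom a₀)
    obtain ⟨one, hone, hone'⟩ : ∃ one : Γ(X, p ⁻¹ᵁ U), (Y.ι.app _).hom one = 1 ∧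
        (Y'.ι.app (p ⁻¹ᵁ U)).hom one = 0 := by
      let V : Bool → X.Opens := fun b => cond b (p ⁻¹ᵁ U ⊓ Y) (p ⁻¹ᵁ U ⊓ Y')
      let sv : (b : Bool) → Γ(X, V b) := fun b =>
        match b with
        | true => 1
        | false => 0
      have hle : ∀ b, V b ≤ p ⁻¹ᵁ U := fun b => by cases b <;> exact inf_le_left
      obtain ⟨one, h1, -⟩ := X.sheaf.existsUnique_gluing' V (p ⁻¹ᵁ U) (fun b => homOfLE (hle b))
        (fun x hx => by
          by_cases h : x ∈ Y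
          · exact Opens.mem_iSup.2 ⟨true, hx, h⟩
          · exact Opens.mem_iSup.2 ⟨false, hx, h⟩) sv (by
          intro b b'
          have hbot : p ⁻¹ᵁ U ⊓ Y ⊓ (p ⁻¹ᵁ U ⊓ Y') = ⊥ :=
            Opens.ext (Set.eq_empty_iff_forall_notMem.2 fun x hx => hx.2.2 hx.1.2)
          haveI : ∀ W : X.Opens, W = ⊥ → Subsingleton Γ(X, W) := fun W hW => by
            subst hW
            exact CommRingCat.subsingleton_of_isTerminal X.sheaf.isTerminalOfEmpty
          cases b <;> cases b'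
          · rfl
          · exact @Subsingleton.elim _ (this _ (inf_comm _ _ |>.trans hbot)) _ _
          · exact @Subsingleton.elim _ (this _ hbot) _ _
          · rfl)
      refine ⟨one, ?_, ?_⟩
      · let one : Γ(X, p ⁻¹ᵁ U) := one
        have h := (ι_app_eq_zero_iff (p ⁻¹ᵁ U) Y (one - 1)).2 (by
          rw [map_sub, map_one, sub_eq_zero]
          exact h1 true)
        exact (sub_eq_zero.1 ((map_sub _ _ _).symm.trans h)).trans (map_one _)
      · exact (ι_app_eq_zero_iff _ Y' one).2 (h1 false)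
    refine ⟨one * a₀, by rw [map_mul, hone, one_mul, ha₀], ?_⟩
    refine (ι_app_eq_zero_iff _ Y' _).1 ?_
    rw [map_mul, hone', zero_mul]
  have haH : ∀ h : H, (h : G) • a = a := by
    intro h
    rw [← sub_eq_zero]
    set b := (h : G) • a - a with hb
    have hbY : (Y.ι.app _).hom b = 0 := by
      rw [hb, map_sub, sub_eq_zero, ha]
      refine Eq.trans ?_ (hs h⁻¹)
      rw [← ha]
      exact (appLE_swap (hρY h⁻¹) _ (SGA1.preimage_le_of_inv ρ p hP.inv (h : G)⁻¹ U)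
        (SGA1.preimage_le_of_inv ρY _ hinv h⁻¹ U) a)
    refine X.sheaf.eq_of_locally_eq' (fun b : Bool => p ⁻¹ᵁ U ⊓ cond b Y Y') (p ⁻¹ᵁ U)
      (fun _ => homOfLE inf_le_left) (fun x hx => ?_) b 0 fun c => ?_
    · by_cases h : x ∈ Y
      · exact Opens.mem_iSup.2 ⟨true, hx, h⟩
      · exact Opens.mem_iSup.2 ⟨false, hx, h⟩
    · show (X.presheaf.map _).hom b = (X.presheaf.map _).hom 0
      rw [map_zero]
      cases c
      · rw [hb, map_sub, ha', sub_zero]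
        show (((ρ (h : G)⁻¹).hom.appLE _ _ _) ≫ X.presheaf.map _).hom a = 0
        rw [Scheme.Hom.appLE_map]
        dsimp only [cond_false]
        have hW : p ⁻¹ᵁ U ⊓ Y' ≤ (ρ (h : G)⁻¹).hom ⁻¹ᵁ (p ⁻¹ᵁ U ⊓ Y') := fun x hx =>
          ⟨SGA1.preimage_le_of_inv ρ p hP.inv _ U hx.1, fun hxY => hx.2 (by
            have := hstab h h.2 _ hxY
            have e : (ρ (h : G)⁻¹).hom ≫ (ρ (h : G)).hom = 𝟙 X := by
              rw [← SGA1Q.hom_mul, mul_inv_cancel, SGA1Q.hom_one]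
            exact Eq.mp (congrArg (· ∈ Y) (congr(($e).base x))) this)⟩
        rw [← Scheme.Hom.map_appLE _ hW (homOfLE inf_le_left).op, CommRingCat.hom_comp,
          RingHom.comp_apply, ha', map_zero]
      · exact (ι_app_eq_zero_iff _ _ b).1 hbY
  -- the sum over the cosets
  haveI := Fintype.ofFinite (G ⧸ H)
  let F : G ⧸ H → Γ(X, p ⁻¹ᵁ U) := fun c => c.out • a
  have hF : ∀ g : G, F (QuotientGroup.mk g) = g • a := fun g => by
    obtain ⟨h, hh⟩ := QuotientGroup.mk_out_eq_mul H g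
    show (Quotient.out (QuotientGroup.mk g : G ⧸ H)) • a = _
    rw [hh, mul_smul, haH]
  have hFg : ∀ (g : G) (c : G ⧸ H), g • F c = F (g • c) := fun g c => by
    induction c using QuotientGroup.induction_on with
    | _ z => rw [hF, MulAction.Quotient.smul_mk, hF, smul_eq_mul, mul_smul]
  obtain ⟨t, ht⟩ := (hP.range_iff U (∑ c, F c)).2 fun g => by
    have h1 : g⁻¹ • (∑ c, F c) = ∑ c, F c := by
      rw [Finset.smul_sum]
      exact Fintype.sum_equiv (MulAction.toPerm g⁻¹) _ _ fun c => hFg g⁻¹ c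
    conv_rhs => rw [← h1]
    show _ = ((ρ g⁻¹⁻¹).hom.appLE _ _ _).hom _
    exact congr(($(SGA1Q.appLE_congr_hom (by rw [inv_inv]) _ _)).hom _)
  refine ⟨t, ?_⟩
  show (Y.ι.app _).hom ((p.app U).hom t) = s
  rw [ht, map_sum, Finset.sum_eq_single (QuotientGroup.mk (1 : G))]
  · rw [hF, one_smul, ha]
  · intro c _ hc
    induction c using QuotientGroup.induction_on with
    | _ z =>
      rw [hF]
      refine (key U).2 a ha' z fun hz => hc ?_
      rw [QuotientGroup.eq]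
      simpa using hz
  · simp

end Groth.Agent.QuotPerm75
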